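import Mathlib

/-!
The zeroth right derived functor is left exact.
-/

set_option autoImplicit false
set_option backward.isDefEq.respectTransparency false
universe v v' u u'

open CategoryTheory CategoryTheory.Limits

noncomputable section

namespace Groth.Agent.DerivedZero

variable {A : Type u} [Category.{v} A] [Abelian A] [EnoughInjectives A]
  {B : Type u'} [Category.{v'} B] [Abelian B] (F : A ⥤ B) [F.Additive]

/-- The image under `F` of the chosen resolution. -/
abbrev cx (X : A) : CochainComplex B ℕ :=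
  (F.mapHomologicalComplex _).obj (InjectiveResolution.of X).cocomplex

/-- `R⁰F X` is the object of cocycles. -/
def eIso (X : A) : (F.rightDerived 0).obj X ≅ (cx F X).cycles 0 :=
  (InjectiveResolution.of X).isoRightDerivedObj F 0 ≪≫ (CochainComplex.isoHomologyπ₀ _).symm

/-- The embedding of `R⁰F X`. -/
def q (X : A) : (F.rightDerived 0).obj X ⟶ F.obj ((InjectiveResolution.of X).cocomplex.X 0) :=
  (eIso F X).hom ≫ (cx F X).iCycles 0

instance (X : A) : Mono (q F X) := mono_comp _ _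

lemma q_d (X : A) : q F X ≫ F.map ((InjectiveResolution.of X).cocomplex.d 0 1) = 0 :=
  (Category.assoc _ _ _).trans ((congrArg ((eIso F X).hom ≫ ·) ((cx F X).iCycles_d 0 1)).trans comp_zero)

lemma exists_lift {X : A} {T : B} (z : T ⟶ F.obj ((InjectiveResolution.of X).cocomplex.X 0))
    (hz : z ≫ F.map ((InjectiveResolution.of X).cocomplex.d 0 1) = 0) :
    ∃ z', z' ≫ q F X = z :=
  ⟨(cx F X).liftCycles z 1 (by simp) hz ≫ (eIso F X).inv, by
    rw [q, Category.assoc, Iso.inv_hom_id_assoc]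
    exact HomologicalComplex.liftCycles_i _ _ _ _ _⟩

lemma q_naturality {X Y : A} (f : X ⟶ Y) :
    ∃ φ : (InjectiveResolution.of X).cocomplex ⟶ (InjectiveResolution.of Y).cocomplex,
      (InjectiveResolution.of X).ι.f 0 ≫ φ.f 0 = f ≫ (InjectiveResolution.of Y).ι.f 0 ∧
      (F.rightDerived 0).map f ≫ q F Y = q F X ≫ F.map (φ.f 0) := by
  let φ := InjectiveResolution.desc f (InjectiveResolution.of Y) (InjectiveResolution.of X)
  refine ⟨φ, InjectiveResolution.desc_commutes_zero _ _ _, ?_⟩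
  have h := InjectiveResolution.isoRightDerivedObj_hom_naturality f (InjectiveResolution.of X)
    (InjectiveResolution.of Y) φ (InjectiveResolution.desc_commutes_zero _ _ _) F 0
  simp only [q, eIso, Iso.trans_hom, Iso.symm_hom, Category.assoc]
  rw [reassoc_of% h]
  congr 1
  rw [← Category.assoc, ← Category.assoc]
  have h2 : HomologicalComplex.homologyMap ((F.mapHomologicalComplex _).map φ) 0 ≫
      (CochainComplex.isoHomologyπ₀ (cx F Y)).inv =
      (CochainComplex.isoHomologyπ₀ (cx F X)).inv ≫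
        HomologicalComplex.cyclesMap ((F.mapHomologicalComplex _).map φ) 0 := by
    rw [Iso.eq_inv_comp, ← Category.assoc, Iso.comp_inv_eq]
    exact (HomologicalComplex.homologyπ_naturality _ 0)
  erw [h2]
  rw [Category.assoc, Category.assoc]
  congr 1
  exact HomologicalComplex.cyclesMap_i _ _

lemma q_naturality' {X Y : A} (f : X ⟶ Y)
    (h : (InjectiveResolution.of X).cocomplex.X 0 ⟶ (InjectiveResolution.of Y).cocomplex.X 0)
    (hh : (InjectiveResolution.of X).ι.f 0 ≫ h = f ≫ (InjectiveResolution.of Y).ι.f 0) :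
    (F.rightDerived 0).map f ≫ q F Y = q F X ≫ F.map h := by
  obtain ⟨φ, hφ, hq⟩ := q_naturality F f
  have h0 : (InjectiveResolution.of X).ι.f 0 ≫ (h - φ.f 0) = 0 := by
    rw [Preadditive.comp_sub, sub_eq_zero]
    exact hh.trans hφ.symm
  have hs := (InjectiveResolution.of X).exact₀.comp_descToInjective (h - φ.f 0) h0
  have e : q F X ≫ F.map (h - φ.f 0) = 0 := by
    rw [← hs, F.map_comp]
    exact (reassoc_of% (q_d F X)) _ |>.trans zero_comp
  rw [hq]
  rw [F.map_sub, Preadditive.comp_sub, sub_eq_zero] at e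
  exact e.symm

instance additive : (F.rightDerived 0).Additive where
  map_add {X Y} {f g} := by
    obtain ⟨φ, hφ, hf⟩ := q_naturality F f
    obtain ⟨φ', hφ', hg⟩ := q_naturality F g
    rw [← cancel_mono (q F Y), Preadditive.add_comp, hf, hg, q_naturality' F (f + g) (φ.f 0 + φ'.f 0)
      (by rw [Preadditive.add_comp]; exact (Preadditive.comp_add _ _ _ _ _ _).trans (congrArg₂ (· + ·) hφ hφ')),
      F.map_add, Preadditive.comp_add]

lemma map_mono {X Y : A} (f : X ⟶ Y) [Mono f] : Mono ((F.rightDerived 0).map f) := by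
  obtain ⟨φ, hφ, hq⟩ := q_naturality F f
  let R := InjectiveResolution.of X
  let S := InjectiveResolution.of Y
  obtain ⟨ψ, hψ⟩ : ∃ ψ : S.cocomplex.X 0 ⟶ R.cocomplex.X 0, (f ≫ S.ι.f 0) ≫ ψ = R.ι.f 0 := by
    haveI : Mono (S.ι.f 0) := inferInstance
    haveI : Mono (f ≫ S.ι.f 0) := mono_comp _ _
    exact ⟨Injective.factorThru (R.ι.f 0) (f ≫ S.ι.f 0), Injective.comp_factorThru _ _⟩
  let h := φ.f 0 ≫ ψ - 𝟙 _
  have hh : R.ι.f 0 ≫ h = 0 := by
    simp only [h, Preadditive.comp_sub, Category.comp_id, R] at *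
    rw [reassoc_of% hφ, ← Category.assoc, hψ, sub_self]
  have hs : R.cocomplex.d 0 1 ≫ R.exact₀.descToInjective h hh = h :=
    R.exact₀.comp_descToInjective h hh
  refine Preadditive.mono_of_cancel_zero _ fun {T} t ht => ?_
  rw [← cancel_mono (q F X), zero_comp]
  have h1 : t ≫ q F X ≫ F.map (φ.f 0) = 0 := by rw [← hq, reassoc_of% ht, zero_comp]
  have h2 : t ≫ q F X ≫ F.map (φ.f 0 ≫ ψ) = 0 := by
    rw [F.map_comp, reassoc_of% h1, zero_comp]
  rw [show φ.f 0 ≫ ψ = R.cocomplex.d 0 1 ≫ R.exact₀.descToInjective h hh + 𝟙 _ by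
    rw [hs]; exact (sub_add_cancel _ _).symm, F.map_add, F.map_comp, F.map_id, Preadditive.comp_add,
    Preadditive.comp_add, Category.comp_id, reassoc_of% (q_d F X), zero_comp, comp_zero,
    zero_add] at h2
  exact h2

lemma map_exact (S₀ : ShortComplex A) (hS : S₀.Exact) [Mono S₀.f] :
    (S₀.map (F.rightDerived 0)).Exact := by
  obtain ⟨φ, hφ, hq⟩ := q_naturality F S₀.f
  obtain ⟨φ', hφ', hq'⟩ := q_naturality F S₀.g
  let R := InjectiveResolution.of S₀.X₁
  let S := InjectiveResolution.of S₀.X₂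
  let T := InjectiveResolution.of S₀.X₃
  let K : ShortComplex A := ShortComplex.mk (S₀.f ≫ S.ι.f 0)
    (biprod.lift (S.cocomplex.d 0 1) (φ'.f 0)) (by
      ext
      · simp [S]
      · simp only [Category.assoc, biprod.lift_snd, zero_comp, S]
        rw [hφ', ← Category.assoc, S₀.zero, zero_comp])
  have hK : K.Exact := by
    rw [ShortComplex.exact_iff_exact_up_to_refinements]
    intro W w hw
    have hw1 : w ≫ S.cocomplex.d 0 1 = 0 := by simpa [K] using hw =≫ biprod.fst
    have hw2 : w ≫ φ'.f 0 = 0 := by simpa [K] using hw =≫ biprod.snd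
    obtain ⟨W₁, π₁, _, y, hy⟩ := S.exact₀.exact_up_to_refinements w hw1
    change π₁ ≫ w = y ≫ S.ι.f 0 at hy
    have hyg : y ≫ S₀.g = 0 := by
      haveI : Mono (T.ι.f 0) := inferInstance
      rw [← cancel_mono (T.ι.f 0), zero_comp, Category.assoc, ← hφ', ← Category.assoc, ← hy,
        Category.assoc, hw2, comp_zero]
    obtain ⟨W₂, π₂, _, x, hx⟩ := hS.exact_up_to_refinements y hyg
    refine ⟨W₂, π₂ ≫ π₁, epi_comp _ _, x, ?_⟩
    simp [K, hy, reassoc_of% hx]
  have extend : ∀ {J : A} [Injective J] (h : S.cocomplex.X 0 ⟶ J), (S₀.f ≫ S.ι.f 0) ≫ h = 0 →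
      ∃ a b, h = S.cocomplex.d 0 1 ≫ a + φ'.f 0 ≫ b := by
    intro J _ h hh
    let k := hK.descToInjective h hh
    refine ⟨biprod.inl ≫ k, biprod.inr ≫ k, ?_⟩
    have e : biprod.lift (S.cocomplex.d 0 1) (φ'.f 0) ≫ k = h := hK.comp_descToInjective h hh
    rw [← e, biprod.lift_eq, Preadditive.add_comp, Category.assoc, Category.assoc]
  haveI : Mono (S₀.f ≫ S.ι.f 0) := mono_comp _ _
  obtain ⟨ψ, hψ⟩ : ∃ ψ : S.cocomplex.X 0 ⟶ R.cocomplex.X 0, (S₀.f ≫ S.ι.f 0) ≫ ψ = R.ι.f 0 :=
    ⟨Injective.factorThru (R.ι.f 0) (S₀.f ≫ S.ι.f 0), Injective.comp_factorThru _ _⟩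
  obtain ⟨a, b, hab⟩ := extend (ψ ≫ R.cocomplex.d 0 1) (by
    rw [← Category.assoc, hψ]; exact R.ι_f_zero_comp_complex_d)
  obtain ⟨a', b', hab'⟩ := extend (ψ ≫ φ.f 0 - 𝟙 _) (by
    rw [Preadditive.comp_sub, ← Category.assoc, hψ, hφ, Category.comp_id]
    exact sub_self _)
  rw [ShortComplex.exact_iff_exact_up_to_refinements]
  intro W y hy
  change y ≫ (F.rightDerived 0).map S₀.g = 0 at hy
  have h1 : y ≫ q F S₀.X₂ ≫ F.map (φ'.f 0) = 0 := by rw [← hq', reassoc_of% hy, zero_comp]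
  obtain ⟨x, hx⟩ := exists_lift F (y ≫ q F S₀.X₂ ≫ F.map ψ) (by
    rw [Category.assoc, Category.assoc, ← F.map_comp, hab, F.map_add, F.map_comp, F.map_comp,
      Preadditive.comp_add, Preadditive.comp_add, reassoc_of% (q_d F S₀.X₂), reassoc_of% h1]
    simp)
  refine ⟨W, 𝟙 W, inferInstance, x, ?_⟩
  change 𝟙 W ≫ y = x ≫ (F.rightDerived 0).map S₀.f
  rw [Category.id_comp, ← cancel_mono (q F S₀.X₂), Category.assoc x, hq, reassoc_of% hx,
    ← F.map_comp, show ψ ≫ φ.f 0 = S.cocomplex.d 0 1 ≫ a' + φ'.f 0 ≫ b' + 𝟙 _ by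
      rw [← hab']; simp, F.map_add, F.map_add, F.map_comp, F.map_comp, F.map_id,
    Preadditive.comp_add, Preadditive.comp_add, Preadditive.comp_add, Preadditive.comp_add,
    reassoc_of% (q_d F S₀.X₂), reassoc_of% h1, Category.comp_id]
  simp

theorem preservesFiniteLimits : PreservesFiniteLimits (F.rightDerived 0) := by
  have h : ∀ S : ShortComplex A, S.Exact ∧ Mono S.f →
      (S.map (F.rightDerived 0)).Exact ∧ Mono ((F.rightDerived 0).map S.f) := fun S h =>
    haveI := h.2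
    ⟨map_exact F S h.1, map_mono F S.f⟩
  exact ((Functor.preservesFiniteLimits_tfae (F.rightDerived 0)).out 1 3).1 h

end Groth.Agent.DerivedZero
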